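import Cfsg.Agent.Lib.Solvable.FewSylowPrimePower.Core
import Cfsg.Agent.Lib.Fusion.PSolvable
import Cfsg.Agent.Lib.Coprime.Sylow

/-!
# A `p`-solvable group with fewer than `p²` Sylow subgroups

For a Sylow subgroup of order `p` the number of Sylow subgroups is `[N : C_N(P)]`, `N = O_{p'}(G)`,
and each of its prime power parts is congruent to `1` modulo `p`.
-/

set_option autoImplicit false

namespace CfsgLib.Solvable.FewSylowPP

open Subgroup CfsgLib.Fusion.PSolvable
open CfsgLib.Solvable
open scoped Pointwise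

variable {G : Type*} [Group G] [Finite G] {p : ℕ} [hp : Fact p.Prime]

/-- An invariant Sylow subgroup containing a given invariant subgroup. -/
theorem exists_invariant_sylow_above {A N U : Subgroup G} {r : ℕ} [hr : Fact r.Prime]
    (hAN : A ≤ normalizer (N : Set G)) (hcop : (Nat.card A).Coprime (Nat.card N))
    (hA : Group.IsSolvable A) (hUN : U ≤ N) (hU : IsPGroup r U) (hAU : A ≤ normalizer (U : Set G)) :
    ∃ Q : Subgroup G, U ≤ Q ∧ Q ≤ N ∧ IsPGroup r Q ∧ A ≤ normalizer (Q : Set G) ∧
      Nat.card Q = r ^ (Nat.card N).factorization r := by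
  classical
  obtain ⟨Q, ⟨hUQ, hQN, hQr, hAQ⟩, hmax⟩ := Set.exists_max_image
    {Q : Subgroup G | U ≤ Q ∧ Q ≤ N ∧ IsPGroup r Q ∧ A ≤ normalizer (Q : Set G)}
    (fun Q : Subgroup G => Nat.card Q) (Set.toFinite _) ⟨U, le_rfl, hUN, hU, hAU⟩
  refine ⟨Q, hUQ, hQN, hQr, hAQ, ?_⟩
  obtain ⟨a, ha⟩ := hQr.exists_card_eq
  have hQd : r ^ a ∣ Nat.card N := ha ▸ Subgroup.card_dvd_of_le hQN
  have hale : a ≤ (Nat.card N).factorization r :=
    (hr.out.pow_dvd_iff_le_factorization Nat.card_pos.ne').1 hQd
  rcases hale.eq_or_lt with h | hlt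
  · rw [ha, h]
  exfalso
  set M := N ⊓ normalizer (Q : Set G) with hM
  have hAM : A ≤ normalizer (M : Set G) :=
    Subgroup.le_normalizer_iff.2 fun x hx y hy => Subgroup.mem_inf.2 ⟨Subgroup.le_normalizer_iff.1 hAN x hx y (Subgroup.mem_inf.1 hy).1,
      mul_mem (mul_mem (hAQ hx) (Subgroup.mem_inf.1 hy).2) (inv_mem (hAQ hx))⟩
  have hMd : r ^ (a + 1) ∣ Nat.card M := by
    have hQ' : Nat.card (Q.subgroupOf N) = r ^ a := by
      rw [Nat.card_congr (Subgroup.subgroupOfEquivOfLe hQN).toEquiv, ha]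
    have h1 := Sylow.prime_pow_dvd_card_normalizer
      ((pow_dvd_pow r hlt).trans (Nat.ordProj_dvd _ _)) hQ'
    refine h1.trans (Subgroup.card_dvd_of_injective
      ((MonoidHom.comp N.subtype (Subgroup.subtype _)).codRestrict M fun x => ⟨(x : ↥N).2, ?_⟩) ?_)
    · have e := Subgroup.subgroupOf_normalizer_eq hQN
      exact (SetLike.ext_iff.1 e (x : ↥N)).2 x.2
    · intro x y e
      exact Subtype.ext (Subtype.ext (congrArg Subtype.val e :))
  obtain ⟨W, hW⟩ := Coprime.exists_invariant_sylow (A := A) (K := M) hAM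
    (hcop.coprime_dvd_right (Subgroup.card_dvd_of_le inf_le_left)) (Or.inl hA) r
  haveI : (Q.subgroupOf M).Normal := Subgroup.normal_subgroupOf_of_le_normalizer inf_le_right
  have hQW : Q ≤ (W : Subgroup M).map M.subtype := by
    intro x hx
    have hxM : x ∈ M := ⟨hQN hx, Subgroup.le_normalizer hx⟩
    have h1 : Q.subgroupOf M ≤ Cfsg.pCore r ↥M := Cores.le_pCore (hQr.comap_subtype)
    exact ⟨⟨x, hxM⟩, Cores.pCore_le_sylow W (h1 (Subgroup.mem_subgroupOf.2 hx)), rfl⟩
  have hbig := hmax ((W : Subgroup M).map M.subtype)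
    ⟨hUQ.trans hQW, (Subgroup.map_subtype_le _).trans inf_le_left, W.2.map _, hW⟩
  have h2 : r ^ (a + 1) ∣ Nat.card (W : Subgroup M) := by
    rw [W.card_eq_multiplicity]
    exact pow_dvd_pow r ((hr.out.pow_dvd_iff_le_factorization Nat.card_pos.ne').1 hMd)
  have h3 := Nat.le_of_dvd Nat.card_pos h2
  simp only [Coprime.card_map_subtype, ha] at hbig
  have := Nat.pow_lt_pow_right hr.out.one_lt (show a < a + 1 from Nat.lt_succ_self a)
  omega

/-- In a `p`-solvable group with Sylow subgroups of order `p`, the number of them is a prime power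
when it is less than `p²`. -/
theorem prime_power_of_order_p (hG : Cfsg.IsPSolvable p G) (P : Sylow p G)
    (hP : Nat.card (P : Subgroup G) = p) (hn : Nat.card (Sylow p G) < p ^ 2) :
    ∃ q k : ℕ, q.Prime ∧ Nat.card (Sylow p G) = q ^ k := by
  classical
  set N := Cfsg.pPrimeCore p G with hN
  set A := (P : Subgroup G) with hA
  have hNc : (Nat.card N).Coprime p := Cores.coprime_card_pPrimeCore p
  have hAN : A ⊓ N = ⊥ := Subgroup.inf_eq_bot_of_coprime (by rw [hP]; exact hNc.symm)
  -- `N P` is normal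
  set π := QuotientGroup.mk' N with hπ
  have hsurj : Function.Surjective π := QuotientGroup.mk'_surjective N
  let R : Sylow p (G ⧸ N) := P.mapSurjective hsurj
  have hR : (R : Subgroup (G ⧸ N)) = A.map π := rfl
  have hcyc : ∀ a b : ↥(R : Subgroup (G ⧸ N)), a * b = b * a := by
    intro a b
    haveI : IsCyclic ↥A := isCyclic_of_prime_card hP
    obtain ⟨a', ha', ea⟩ := (hR ▸ a.2 : (a : G ⧸ N) ∈ A.map π)
    obtain ⟨b', hb', eb⟩ := (hR ▸ b.2 : (b : G ⧸ N) ∈ A.map π)
    refine Subtype.ext ?_
    rw [Subgroup.coe_mul, Subgroup.coe_mul, ← ea, ← eb, ← map_mul, ← map_mul]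
    letI := IsCyclic.commGroup (α := ↥A)
    exact congrArg π (congrArg Subtype.val (mul_comm (⟨a', ha'⟩ : ↥A) ⟨b', hb'⟩))
  have hcore : Cfsg.pCore p (G ⧸ N) = R := by
    refine le_antisymm (Cores.pCore_le_sylow R) fun x hx => ?_
    refine centralizer_pCore_le (psolvable_quotient hG N) Components.pPrimeCore_quotient_eq_bot
      (Subgroup.mem_centralizer_iff.2 fun y hy => ?_)
    exact congrArg Subtype.val (hcyc ⟨y, Cores.pCore_le_sylow R hy⟩ ⟨x, hx⟩)
  haveI hNP : (A ⊔ N).Normal := by
    have e : A ⊔ N = (A.map π).comap π := by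
      rw [Subgroup.comap_map_eq, QuotientGroup.ker_mk']
    rw [e, ← hR, ← hcore]
    infer_instance
  set B := normalizer (A : Set G) with hB
  have hfr : B ⊔ N = ⊤ := by
    rw [eq_top_iff, ← Sylow.normalizer_sup_eq_top' P (le_sup_left : A ≤ A ⊔ N)]
    exact sup_le le_sup_left (sup_le (Subgroup.le_normalizer.trans le_sup_left) le_sup_right)
  have hC : B ⊓ N = N ⊓ centralizer (A : Set G) := by
    apply le_antisymm
    · intro c hc
      refine ⟨hc.2, Subgroup.mem_centralizer_iff.2 ?_⟩
      intro x (hx : x ∈ A)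
      have h1 : c * x * c⁻¹ * x⁻¹ ∈ A ⊓ N := Subgroup.mem_inf.2
        ⟨mul_mem ((Subgroup.mem_normalizer_iff.1 (Subgroup.mem_inf.1 hc).1 x).1 hx) (inv_mem hx), by
          rw [show c * x * c⁻¹ * x⁻¹ = c * (x * c⁻¹ * x⁻¹) by group]
          exact mul_mem (Subgroup.mem_inf.1 hc).2 ((inferInstance : N.Normal).conj_mem _ (inv_mem hc.2) x)⟩
      rw [hAN, Subgroup.mem_bot, mul_inv_eq_one, mul_inv_eq_iff_eq_mul] at h1
      exact h1.symm
    · intro c hc
      refine ⟨Subgroup.mem_normalizer_iff.2 ?_, hc.1⟩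
      intro x
      refine ⟨fun hx => ?_, fun hx => ?_⟩
      · rwa [← Subgroup.mem_centralizer_iff.1 hc.2 x hx, mul_inv_cancel_right]
      · have h1 := Subgroup.mem_centralizer_iff.1 hc.2 _ hx
        rw [inv_mul_cancel_right] at h1
        have h2 : c * x * c⁻¹ = x := mul_left_cancel h1.symm
        rwa [h2] at hx
  set C := N ⊓ centralizer (A : Set G) with hCdef
  have hindex : Nat.card (Sylow p G) * Nat.card C = Nat.card N := by
    rw [P.card_eq_index_normalizer, show (Subgroup.normalizer (P : Set G)).index = B.index from rfl]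
    have h1 := Subgroup.card_mul_index B
    have h2 := Subgroup.card_mul_index N
    have h3 : N.relIndex B = N.index := by
      rw [← Subgroup.relIndex_sup_right B N, hfr, Subgroup.relIndex_top_right]
    have h4 : Nat.card ↥(B ⊓ N) * N.relIndex B = Nat.card B := by
      have h5 := Subgroup.card_mul_index (N.subgroupOf B)
      rw [show Nat.card ↥(N.subgroupOf B) = Nat.card ↥(B ⊓ N) from ?_] at h5
      · exact h5
      · rw [← Subgroup.inf_subgroupOf_left]
        exact Nat.card_congr (Subgroup.subgroupOfEquivOfLe inf_le_left).toEquiv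
    rw [hC, h3] at h4
    refine Nat.eq_of_mul_eq_mul_right (Nat.pos_of_ne_zero N.index_ne_zero_of_finite) ?_
    rw [h2, ← h1, ← h4]; ring
  -- each prime power part is congruent to one modulo `p`
  have hApg : IsPGroup p A := P.2
  haveI hAsolv : Group.IsSolvable A := by
    haveI : IsCyclic ↥A := isCyclic_of_prime_card hP
    letI := IsCyclic.commGroup (α := ↥A)
    exact Group.isSolvable_of_comm mul_comm
  have hparts : ∀ r : ℕ, r.Prime → r ∣ Nat.card (Sylow p G) →
      ∃ w, w ∣ Nat.card (Sylow p G) ∧ (∀ s : ℕ, s.Prime → s ∣ w → s = r) ∧ p + 1 ≤ w := by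
    intro r hr hrd
    haveI := Fact.mk hr
    obtain ⟨T⟩ : Nonempty (Sylow r ↥C) := inferInstance
    set U := (T : Subgroup C).map C.subtype with hUdef
    have hUC : U ≤ C := Subgroup.map_subtype_le _
    have hAU : A ≤ normalizer (U : Set G) := fun x hx => Subgroup.mem_normalizer_iff.2 fun y => by
      have hfix : ∀ z ∈ U, x * z * x⁻¹ = z := fun z hz => by
        rw [Subgroup.mem_centralizer_iff.1 (hUC hz).2 x hx, mul_inv_cancel_right]
      refine ⟨fun hy => by rwa [hfix y hy], fun hy => ?_⟩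
      have h1 := hfix _ hy
      have h2 : x * y * x⁻¹ = y := mul_left_cancel (mul_right_cancel h1)
      rwa [h2] at hy
    obtain ⟨Q, hUQ, hQN, hQr, hAQ, hQcard⟩ := exists_invariant_sylow_above (A := A) (N := N) (r := r)
      (by rw [Subgroup.normalizer_eq_top]; exact le_top) (by rw [hP]; exact hNc.symm) hAsolv
      (hUC.trans inf_le_left) (T.2.map _) hAU
    -- the fixed points of `A` on `Q`
    have hfixed : Q ⊓ centralizer (A : Set G) = U := by
      refine (Subgroup.eq_of_le_of_card_ge (le_inf hUQ (hUC.trans inf_le_right)) ?_).symm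
      have hle : Q ⊓ centralizer (A : Set G) ≤ C := inf_le_inf_right _ hQN
      have h1 : IsPGroup r ↥((Q ⊓ centralizer (A : Set G)).subgroupOf C) :=
        (hQr.to_le inf_le_left).comap_subtype
      obtain ⟨T', hT'⟩ := h1.exists_le_sylow
      calc Nat.card ↥(Q ⊓ centralizer (A : Set G))
          = Nat.card ↥((Q ⊓ centralizer (A : Set G)).subgroupOf C) :=
            (Nat.card_congr (Subgroup.subgroupOfEquivOfLe hle).toEquiv).symm
        _ ≤ Nat.card (T' : Subgroup C) := Subgroup.card_le_of_le hT'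
        _ = Nat.card U := by
            rw [hUdef, Coprime.card_map_subtype, T'.card_eq_multiplicity, T.card_eq_multiplicity]
    letI : MulAction ↥A ↥Q :=
      MulAction.compHom _ (Q.normalizerMonoidHom.comp (Subgroup.inclusion hAQ))
    have hsmul : ∀ (a : ↥A) (x : ↥Q), ((a • x : ↥Q) : G) = (a : G) * (x : G) * (a : G)⁻¹ := fun a x => rfl
    have hmod := hApg.card_modEq_card_fixedPoints ↥Q
    have hfx : Nat.card ↥(MulAction.fixedPoints ↥A ↥Q) = Nat.card U := by
      rw [← hfixed]
      refine Nat.card_congr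
        { toFun := fun x => ⟨((x : ↥Q) : G), (x : ↥Q).2, Subgroup.mem_centralizer_iff.2 fun a ha => by
            have h1 := congrArg Subtype.val (x.2 ⟨a, ha⟩)
            rw [hsmul] at h1
            exact mul_inv_eq_iff_eq_mul.1 h1⟩
          invFun := fun x => ⟨⟨(x : G), x.2.1⟩, fun a => Subtype.ext (by
            rw [hsmul]
            exact mul_inv_eq_iff_eq_mul.2 (Subgroup.mem_centralizer_iff.1 x.2.2 a a.2))⟩
          left_inv := fun x => rfl
          right_inv := fun x => rfl }
    rw [hfx] at hmod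
    obtain ⟨w, hw⟩ := Subgroup.card_dvd_of_le hUQ
    have hTcard : Nat.card U = r ^ (Nat.card C).factorization r := by
      rw [hUdef, Coprime.card_map_subtype, T.card_eq_multiplicity]
    have hwdvd : w ∣ r ^ (Nat.card N).factorization r := ⟨Nat.card U, by rw [← hQcard, hw, mul_comm]⟩
    obtain ⟨t, -, ht⟩ := (Nat.dvd_prime_pow hr).1 hwdvd
    have hfac : (Nat.card (Sylow p G)).factorization r + (Nat.card C).factorization r
        = (Nat.card N).factorization r := by
      rw [← hindex, Nat.factorization_mul Nat.card_pos.ne' Nat.card_pos.ne', Finsupp.add_apply]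
    have ht' : t = (Nat.card (Sylow p G)).factorization r := by
      have e := hw
      rw [hQcard, hTcard, ht, ← pow_add] at e
      have := Nat.pow_right_injective hr.two_le e
      omega
    refine ⟨w, ?_, fun s hs hsd => ?_, ?_⟩
    · rw [ht, ht']; exact Nat.ordProj_dvd _ _
    · rw [ht] at hsd
      exact (Nat.prime_dvd_prime_iff_eq hs hr).1 (hs.dvd_of_dvd_pow hsd)
    · have hw1 : w % p = 1 := by
        have hcoU : Nat.gcd p (Nat.card U) = 1 :=
          hNc.symm.coprime_dvd_right (Subgroup.card_dvd_of_le (hUC.trans inf_le_left))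
        rw [hw] at hmod
        conv_rhs at hmod => rw [← mul_one (Nat.card U)]
        have h := Nat.ModEq.cancel_left_of_coprime hcoU hmod
        rw [h]; exact Nat.mod_eq_of_lt hp.out.one_lt
      have ht0 : t ≠ 0 := by
        rw [ht']
        exact (Nat.Prime.factorization_pos_of_dvd hr Nat.card_pos.ne' hrd).ne'
      have hw2 : 1 < w := ht ▸ Nat.one_lt_pow ht0 hr.one_lt
      have h6 := Nat.div_add_mod w p
      rw [hw1] at h6
      rcases Nat.eq_zero_or_pos (w / p) with h0 | h0
      · rw [h0, mul_zero] at h6; omega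
      · have := Nat.mul_le_mul_left p h0
        omega
  by_cases h1 : Nat.card (Sylow p G) = 1
  · exact ⟨2, 0, Nat.prime_two, h1⟩
  refine ⟨(Nat.card (Sylow p G)).minFac, _, Nat.minFac_prime h1,
    Nat.eq_prime_pow_of_unique_prime_dvd Nat.card_pos.ne' fun {s} hs hsd => ?_⟩
  by_contra hne
  obtain ⟨w, hwd, hws, hwp⟩ := hparts _ (Nat.minFac_prime h1) (Nat.minFac_dvd _)
  obtain ⟨v, hvd, hvs, hvp⟩ := hparts s hs hsd
  have hco : Nat.Coprime w v := Nat.coprime_of_dvd fun l hl hlw hlv =>
    hne ((hvs l hl hlv).symm.trans (hws l hl hlw))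
  have h2 := Nat.le_of_dvd Nat.card_pos (hco.mul_dvd_of_dvd_of_dvd hwd hvd)
  have h3 := Nat.mul_le_mul hwp hvp
  nlinarith

end CfsgLib.Solvable.FewSylowPP
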