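import Cfsg.Agent.Lib.Solvable.FewSylowPrimePower.Core
import Cfsg.Agent.Lib.Char.FewSylow.Dichotomy
import Cfsg.Agent.Lib.Fusion.PSolvable

/-!
# A prime power number of Sylow subgroups below `p²`: the group is `p`-solvable
-/

set_option autoImplicit false

namespace CfsgLib.Solvable.FewSylowPP

open Subgroup CfsgLib.Fusion.PSolvable CfsgLib.Char.FewSylow
open CfsgLib.Solvable

/-- The third possibility of Brauer's theorem does not give a prime power below `p²`. -/
theorem not_rep {p q n h u k : ℕ} (hp : p.Prime) (hq : q.Prime) (hn : n < p) (hh : 0 < h) (hu : 0 < u)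
    (he : n * (u + 1) = h * u * p + u ^ 2 + u + h) (hqk : 1 + n * p = q ^ k) : False := by
  have hle : n * (u + 1) + (u + 1) ≤ p * (u + 1) := by
    have := Nat.mul_le_mul_right (u + 1) (Nat.succ_le_of_lt hn)
    linarith
  have hh1 : h = 1 := by
    by_contra hne
    have : 2 ≤ h := by omega
    have h2 : 2 * (u * p) ≤ h * (u * p) := Nat.mul_le_mul_right _ this
    have h3 : p * (u + 1) ≤ 2 * (u * p) := by nlinarith
    nlinarith
  subst hh1
  have hpu : u ^ 2 + 2 * u + 2 ≤ p := by linarith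
  have hfac : q ^ k * (u + 1) = (u * p + 1) * (p + u + 1) := by
    rw [← hqk]; linear_combination p * he
  have hco : Nat.Coprime (p + u + 1) (u + 1) := by
    rw [show p + u + 1 = p + (u + 1) by ring, Nat.coprime_add_self_left, hp.coprime_iff_not_dvd]
    exact Nat.not_dvd_of_pos_of_lt (by omega) (by nlinarith)
  have hB : p + u + 1 ∣ q ^ k := hco.dvd_of_dvd_mul_right ⟨u * p + 1, by rw [hfac]; ring⟩
  obtain ⟨j, hjk, hj⟩ := (Nat.dvd_prime_pow hq).1 hB
  have hA : u * p + 1 = q ^ (k - j) * (u + 1) := by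
    have e : q ^ k = q ^ (k - j) * q ^ j := by rw [← pow_add, Nat.sub_add_cancel hjk]
    rw [e, hj] at hfac
    exact Nat.eq_of_mul_eq_mul_right (pow_pos hq.pos j) (by linarith)
  have hlt : q ^ (k - j) < q ^ j := by
    rw [← hj]
    by_contra hge
    push Not at hge
    have := Nat.mul_le_mul_right (u + 1) hge
    nlinarith
  have hij : k - j ≤ j := ((Nat.pow_lt_pow_iff_right hq.one_lt).1 hlt).le
  have hd1 : q ^ (k - j) ∣ u * (p + u + 1) := by
    rw [hj]; exact (pow_dvd_pow q hij).mul_left u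
  have hd2 : q ^ (k - j) ∣ u * p + 1 := ⟨u + 1, hA⟩
  have hd3 := Nat.dvd_sub hd1 hd2
  have e3 : u * (p + u + 1) - (u * p + 1) = u ^ 2 + u - 1 := by
    have : u * (p + u + 1) = u * p + (u ^ 2 + u) := by ring
    omega
  rw [e3] at hd3
  have hpos : 0 < u ^ 2 + u - 1 := by
    have : 0 < u ^ 2 := by positivity
    omega
  have hle2 := Nat.le_of_dvd hpos hd3
  have hsq : 1 ≤ u ^ 2 := Nat.one_le_pow _ _ hu
  have h4 : q ^ (k - j) + 1 ≤ u ^ 2 + u := by omega
  have h5 := Nat.mul_le_mul_right (u + 1) h4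
  nlinarith [Nat.mul_le_mul_left u hpu]

theorem psolvable_of_quotient_commutative {G : Type*} [Group G] [Finite G] {p : ℕ} [Fact p.Prime]
    (N : Subgroup G) [N.Normal] (hN : (Nat.card N).Coprime p) (h : ∀ a b : G, (a * b)⁻¹ * (b * a) ∈ N) :
    Cfsg.IsPSolvable p G := by
  refine psolvable_cons N (Or.inr hN) ?_
  haveI : Group.IsSolvable (G ⧸ N) := Group.isSolvable_of_comm fun a b => by
    obtain ⟨g, rfl⟩ := QuotientGroup.mk'_surjective N a
    obtain ⟨k, rfl⟩ := QuotientGroup.mk'_surjective N b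
    rw [← map_mul, ← map_mul, QuotientGroup.mk'_eq_mk']
    exact ⟨_, h g k, by group⟩
  exact psolvable_of_solvable

theorem psolvable_of_normal_sylow {G : Type*} [Group G] [Finite G] {p : ℕ} [hp : Fact p.Prime]
    (P : Sylow p G) (h1 : Nat.card (Sylow p G) = 1) : Cfsg.IsPSolvable p G := by
  haveI : (P : Subgroup G).Normal := by
    rw [← Subgroup.normalizer_eq_top_iff, ← Subgroup.index_eq_one, ← h1]
    exact P.card_eq_index_normalizer.symm
  exact psolvable_cons (P : Subgroup G) (Or.inl P.2)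
    (psolvable_of_coprime (hp.out.coprime_iff_not_dvd.2 (by
      rw [← Subgroup.index_eq_card]; exact P.not_dvd_index)).symm)

/-- A Sylow subgroup of order `p`. -/
theorem psolvable_of_order_p {G : Type*} [Group G] [Finite G] {p : ℕ} [hp : Fact p.Prime]
    (hM : ¬ (3 < p ∧ ∃ k : ℕ, p + 1 = 2 ^ k)) (P : Sylow p G) (hP : Nat.card (P : Subgroup G) = p)
    (hn : Nat.card (Sylow p G) < p ^ 2) {q k : ℕ} (hq : q.Prime) (hqk : Nat.card (Sylow p G) = q ^ k) :
    Cfsg.IsPSolvable p G := by
  set K := Subgroup.normalClosure ((P : Subgroup G) : Set G) with hK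
  have hPK : (P : Subgroup G) ≤ K := Subgroup.le_normalClosure
  have hall : ∀ R : Sylow p G, (R : Subgroup G) ≤ K := fun R => by
    obtain ⟨g, rfl⟩ := MulAction.exists_smul_eq G P R
    rw [Sylow.coe_subgroup_smul]
    intro x hx
    obtain ⟨y, hy, rfl⟩ := hx
    exact (Subgroup.normalClosure_normal).conj_mem y (hPK hy) g
  have hcardR : ∀ R : Sylow p G, Nat.card (R : Subgroup G) = p := fun R => by
    rw [R.card_eq_multiplicity, ← P.card_eq_multiplicity, hP]
  have hcK : ∀ S : Sylow p ↥K, Nat.card (S : Subgroup ↥K) = p := fun S => by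
    have e : Nat.card ((P.subtype hPK : Sylow p ↥K) : Subgroup ↥K) = p :=
      (Nat.card_congr (Subgroup.subgroupOfEquivOfLe hPK).toEquiv).trans hP
    rw [S.card_eq_multiplicity, ← (P.subtype hPK).card_eq_multiplicity, e]
  have hnK : Nat.card (Sylow p ↥K) = Nat.card (Sylow p G) := by
    refine (Nat.card_congr (Equiv.ofBijective (fun R : Sylow p G => (R.subtype (hall R) : Sylow p ↥K))
      ⟨fun R R' e => Sylow.subtype_injective e, fun S => ?_⟩)).symm
    have hc : Nat.card ((S : Subgroup ↥K).map K.subtype) = p := by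
      rw [Subgroup.card_map_of_injective K.subtype_injective, hcK S]
    obtain ⟨R, hR⟩ := (IsPGroup.of_card (n := 1) (by rw [pow_one]; exact hc) :
      IsPGroup p ↥((S : Subgroup ↥K).map K.subtype)).exists_le_sylow
    have hReq : (S : Subgroup ↥K).map K.subtype = R :=
      Subgroup.eq_of_le_of_card_ge hR (by rw [hc, hcardR R])
    refine ⟨R, Sylow.ext ?_⟩
    show (R : Subgroup G).subgroupOf K = _
    rw [← hReq, Subgroup.subgroupOf, Subgroup.comap_map_eq_self_of_injective K.subtype_injective]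
  suffices hKs : Cfsg.IsPSolvable p ↥K by
    refine psolvable_of_normal K hKs (psolvable_of_coprime (hp.out.coprime_iff_not_dvd.2 ?_).symm)
    rw [← Subgroup.index_eq_card]
    exact fun h => P.not_dvd_index (h.trans (Subgroup.index_dvd_of_le hPK))
  -- perfect, or p-solvable
  haveI : (⁅K, K⁆ : Subgroup G).Normal := Subgroup.commutator_normal K K
  by_cases hd : p ∣ Nat.card ↥(⁅K, K⁆ : Subgroup G)
  swap
  · refine psolvable_of_quotient_commutative ((⁅K, K⁆ : Subgroup G).subgroupOf K) ?_ fun a b => ?_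
    · rw [Nat.card_congr (Subgroup.subgroupOfEquivOfLe (Subgroup.commutator_le_self K)).toEquiv]
      exact (hp.out.coprime_iff_not_dvd.2 hd).symm
    · rw [Subgroup.mem_subgroupOf]
      have h := Subgroup.commutator_mem_commutator (inv_mem b.2) (inv_mem a.2)
      rw [commutatorElement_def, inv_inv, inv_inv] at h
      simpa [mul_assoc] using h
  have hle : K ≤ ⁅K, K⁆ := by
    obtain ⟨x, hx⟩ := exists_prime_orderOf_dvd_card' (G := ↥(⁅K, K⁆ : Subgroup G)) p hd
    obtain ⟨R, hR⟩ := (IsPGroup.of_card (n := 1) (by rw [Nat.card_zpowers, Subgroup.orderOf_coe, hx, pow_one]) :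
      IsPGroup p ↥(Subgroup.zpowers (x : G))).exists_le_sylow
    have hReq : Subgroup.zpowers (x : G) = R := Subgroup.eq_of_le_of_card_ge hR
      (by rw [hcardR R, Nat.card_zpowers, Subgroup.orderOf_coe, hx])
    obtain ⟨g, hg⟩ := MulAction.exists_smul_eq G R P
    refine Subgroup.normalClosure_le_normal ?_
    intro y hy
    rw [← hg, Sylow.coe_subgroup_smul, ← hReq] at hy
    obtain ⟨w, hw, rfl⟩ := hy
    exact (inferInstance : (⁅K, K⁆ : Subgroup G).Normal).conj_mem _
      (Subgroup.zpowers_le.2 x.2 hw) g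
  have hperf : commutator ↥K = ⊤ := by
    apply Subgroup.map_injective K.subtype_injective
    rw [commutator_def, Subgroup.map_commutator, ← MonoidHom.range_eq_map, Subgroup.range_subtype]
    exact le_antisymm (Subgroup.commutator_le_self K) hle
  set S := P.subtype hPK
  obtain ⟨n, hn'⟩ : ∃ n, Nat.card (Sylow p ↥K) = 1 + n * p := by
    have h := (card_sylow_modEq_one p ↥K)
    refine ⟨Nat.card (Sylow p ↥K) / p, ?_⟩
    have h2 : Nat.card (Sylow p ↥K) % p = 1 := by
      rw [h]; exact Nat.mod_eq_of_lt hp.out.one_lt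
    conv_lhs => rw [← Nat.mod_add_div (Nat.card (Sylow p ↥K)) p, h2, mul_comm]
  have hnp : n < p := by
    rw [hnK] at hn'
    nlinarith
  have hqk' : 1 + n * p = q ^ k := by rw [← hn', hnK, hqk]
  by_contra hns
  set H := Cfsg.pPrimeCore p ↥K
  obtain ⟨R⟩ : Nonempty (Sylow p (↥K ⧸ H)) := inferInstance
  have hX1 : Nat.card (Sylow p (↥K ⧸ H)) ≠ 1 := fun h1 =>
    hns (psolvable_cons H (Or.inr (Cores.coprime_card_pPrimeCore p)) (psolvable_of_normal_sylow R h1))
  have hXd : Nat.card (Sylow p (↥K ⧸ H)) ∣ q ^ k := by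
    rw [← hqk', ← hn']; exact card_sylow_quotient_dvd H S
  have hXm : Nat.card (Sylow p (↥K ⧸ H)) % p = 1 := by
    rw [card_sylow_modEq_one p (↥K ⧸ H)]; exact Nat.mod_eq_of_lt hp.out.one_lt
  have hXG : Nat.card (Sylow p (↥K ⧸ H)) ∣ Nat.card (↥K ⧸ H) :=
    R.card_eq_index_normalizer ▸ Subgroup.index_dvd_card _
  set X := Nat.card (Sylow p (↥K ⧸ H))
  obtain ⟨j, -, hj⟩ := (Nat.dvd_prime_pow hq).1 hXd
  have hcop : X.Coprime p := by
    refine (hp.out.coprime_iff_not_dvd.2 fun h => ?_).symm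
    rw [Nat.mod_eq_zero_of_dvd h] at hXm; exact zero_ne_one hXm
  rcases CfsgLib.Char.FewSylow.dichotomy hperf p S (hcK S) n hn' with
      ⟨F, i1, i2, hF, h3, ⟨e⟩⟩ | ⟨m, F, i1, i2, hF, hpm, h3, ⟨e⟩⟩ | ⟨h, u, hh, hu, he⟩
  · have hc := card_psl_two (F := F)
    rw [← Nat.card_congr e.toEquiv, hF] at hc
    have hg : Nat.gcd 2 (p - 1) = 2 := by
      obtain ⟨i, hi⟩ := hp.out.odd_of_ne_two (by omega)
      rw [hi, Nat.add_sub_cancel]; simp
    rw [hg] at hc
    have hd2 : X ∣ p * ((p - 1) * (p + 1)) := hc ▸ hXG.mul_left 2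
    obtain ⟨c, hcX⟩ := hXG
    rw [hcX] at hc
    obtain ⟨Y, hY⟩ := hcop.symm.dvd_of_dvd_mul_right
      (⟨(p - 1) * (p + 1), by rw [← hc]; ring⟩ : p ∣ (2 * c) * X)
    have hXY : X * Y = (p - 1) * (p + 1) := by
      refine Nat.eq_of_mul_eq_mul_left hp.out.pos ?_
      rw [← hc]
      calc p * (X * Y) = X * (p * Y) := by ring
        _ = X * (2 * c) := by rw [← hY]
        _ = 2 * (X * c) := by ring
    have hY2 : p ∣ Y + 1 := by
      have e1 : X = p * (X / p) + 1 := by conv_lhs => rw [← Nat.div_add_mod X p, hXm]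
      have e2 : (p - 1) * (p + 1) + 1 = p * p := by
        obtain ⟨i, hi⟩ := Nat.exists_eq_add_of_le hp.out.one_lt.le
        subst hi; simp; ring
      rw [← hXY, e1] at e2
      have h5 : p ∣ p * (X / p) * Y + (Y + 1) := ⟨p, by linarith⟩
      exact (Nat.dvd_add_right ⟨X / p * Y, by ring⟩).1 h5
    have hY3 : p ≤ Y + 1 := Nat.le_of_dvd (by omega) hY2
    have hXle : X ≤ p + 1 := by
      by_contra hgt
      have h5 := Nat.mul_le_mul (show p + 2 ≤ X by omega) (show p - 1 ≤ Y by omega)
      rw [hXY] at h5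
      have : 0 < p - 1 := by omega
      nlinarith
    have hXp : X = p + 1 := by
      have h6 := Nat.div_add_mod X p
      rw [hXm] at h6
      have h7 : X / p ≠ 0 := fun h0 => by rw [h0, mul_zero, zero_add] at h6; exact hX1 h6.symm
      have h8 : X / p = 1 := by
        by_contra hne
        have h9 : 2 ≤ X / p := by
          rcases Nat.lt_or_ge (X / p) 2 with hlt | hge
          · interval_cases X / p
            · exact absurd rfl h7
            · exact absurd rfl hne
          · exact hge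
        nlinarith
      rw [h8, mul_one] at h6; omega
    refine hM ⟨h3, j, ?_⟩
    have hq2 : q = 2 := by
      have hev : 2 ∣ q ^ j := by
        rw [← hj, hXp]
        obtain ⟨i, hi⟩ := hp.out.odd_of_ne_two (by omega)
        exact ⟨i + 1, by omega⟩
      exact ((Nat.prime_dvd_prime_iff_eq Nat.prime_two hq).1 (Nat.prime_two.dvd_of_dvd_pow hev)).symm
    rw [← hXp, hj, hq2]
  · have hev : Even (Fintype.card F) := by
      rw [hF]; refine Nat.even_pow.2 ⟨even_two, ?_⟩
      rintro rfl; omega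
    obtain ⟨e'⟩ := nonempty_sl_equiv_psl (F := F) hev
    have hc := card_psl_two (F := F)
    rw [Nat.card_congr e'.toEquiv, ← Nat.card_congr e.toEquiv, hF, show 2 ^ m = p - 1 by omega] at hc
    have hd2 : X ∣ (p - 1) * ((p - 1 - 1) * (p - 1 + 1)) := hc ▸ hXG.mul_left _
    have hd3 : X ∣ (p - 1) * (p - 2) := by
      refine hcop.dvd_of_dvd_mul_right ?_
      have : (p - 1) * ((p - 1 - 1) * (p - 1 + 1)) = (p - 1) * (p - 2) * p := by
        rw [show p - 1 - 1 = p - 2 by omega, show p - 1 + 1 = p by omega]; ring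
      rwa [this] at hd2
    have hco : Nat.Coprime (p - 1) (p - 2) := by
      rw [show p - 1 = (p - 2) + 1 by omega]; simp
    have hXlt : X < p := by
      rcases Nat.eq_zero_or_pos j with hj0 | hj0
      · rw [hj, hj0, pow_zero]; omega
      · rw [hj] at hd3
        by_cases hqa : q ∣ p - 1
        · have : Nat.Coprime (q ^ j) (p - 2) := (hco.coprime_dvd_left hqa).pow_left j
          have := Nat.le_of_dvd (by omega) (this.dvd_of_dvd_mul_right hd3)
          rw [hj]; omega
        · have : Nat.Coprime (q ^ j) (p - 1) := (hq.coprime_iff_not_dvd.2 hqa).pow_left j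
          have := Nat.le_of_dvd (by omega) (this.dvd_of_dvd_mul_left hd3)
          rw [hj]; omega
    rw [Nat.mod_eq_of_lt hXlt] at hXm
    exact hX1 hXm
  · exact not_rep hp.out hq hnp hh hu he hqk'

end CfsgLib.Solvable.FewSylowPP
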