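import Cfsg.Agent.Lib.Solvable.Cores
import Mathlib.GroupTheory.Sylow
import Mathlib.GroupTheory.IndexNormal

/-!
# Fewer than `p²` Sylow subgroups

Then the `p`-core has index `p` in every non-normal Sylow subgroup: every orbit of a Sylow subgroup
`P` on the other ones has length `p`, and the maximal subgroups `P ⊓ Q` all coincide.
-/

set_option autoImplicit false

namespace CfsgLib.Solvable.FewSylowPP

open Subgroup MulAction
open scoped Pointwise

variable {G : Type*} [Group G] [Finite G] {p : ℕ} [hp : Fact p.Prime]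

omit [Finite G] in
theorem stabilizer_eq {A : Subgroup G} (hA : IsPGroup p A) (Q : Sylow p G) :
    MulAction.stabilizer ↥A Q = (Q : Subgroup G).subgroupOf A := by
  ext a
  rw [mem_stabilizer_iff, mem_subgroupOf]
  constructor
  · intro h
    have h1 : (a : G) ∈ A ⊓ Subgroup.normalizer (Q : Set G) :=
      ⟨a.2, Sylow.smul_eq_iff_mem_normalizer.1 h⟩
    have h2 := IsPGroup.inf_normalizer_sylow hA Q
    rw [h2] at h1
    exact h1.2
  · intro h
    exact Sylow.smul_eq_iff_mem_normalizer.2 (Subgroup.le_normalizer h)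

omit [Finite G] in
theorem card_orbit {A : Subgroup G} (hA : IsPGroup p A) (Q : Sylow p G) :
    Nat.card ↥(MulAction.orbit ↥A Q) = (Q : Subgroup G).relIndex A := by
  rw [Subgroup.relIndex, ← stabilizer_eq hA Q, MulAction.index_stabilizer, Nat.card_coe_set_eq]

/-- A proper intersection with another Sylow subgroup has index `p`. -/
theorem relIndex_eq (hn : Nat.card (Sylow p G) < p ^ 2) {A : Subgroup G} (hA : IsPGroup p A)
    (Q : Sylow p G) (hAQ : ¬ A ≤ Q) : (Q : Subgroup G).relIndex A = p := by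
  have hpow : ∃ k, (Q : Subgroup G).relIndex A = p ^ k := by
    obtain ⟨m, hm⟩ := hA.exists_card_eq
    have hd : (Q : Subgroup G).relIndex A ∣ p ^ m := hm ▸ Subgroup.index_dvd_card _
    obtain ⟨k, -, hk⟩ := (Nat.dvd_prime_pow hp.out).1 hd
    exact ⟨k, hk⟩
  obtain ⟨k, hk⟩ := hpow
  have hle : p ^ k < p ^ 2 := by
    rw [← hk, ← card_orbit hA Q]
    refine lt_of_le_of_lt ?_ hn
    exact Nat.card_le_card_of_injective _ Subtype.val_injective
  have hk2 : k < 2 := (Nat.pow_lt_pow_iff_right hp.out.one_lt).1 hle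
  interval_cases k
  · rw [pow_zero, Subgroup.relIndex_eq_one] at hk
    exact absurd hk hAQ
  · rw [hk, pow_one]

theorem not_le_of_ne {P Q : Sylow p G} (h : Q ≠ P) : ¬ (P : Subgroup G) ≤ Q := fun hle =>
  h (Sylow.ext (P.is_maximal' Q.2 hle))

theorem card_mul_eq (hn : Nat.card (Sylow p G) < p ^ 2) {P Q : Sylow p G} (h : Q ≠ P) :
    p * Nat.card ↥((P : Subgroup G) ⊓ Q) = Nat.card (P : Subgroup G) := by
  have h1 : ((P : Subgroup G) ⊓ Q).relIndex (P : Subgroup G) = p := by
    rw [inf_comm, Subgroup.inf_relIndex_right, relIndex_eq hn P.2 Q (not_le_of_ne h)]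
  have h2 := Subgroup.card_mul_index (((P : Subgroup G) ⊓ Q).subgroupOf (P : Subgroup G))
  rw [Nat.card_congr (Subgroup.subgroupOfEquivOfLe inf_le_left).toEquiv, ← Subgroup.relIndex, h1] at h2
  rw [mul_comm, h2]

/-- All the intersections coincide. -/
theorem inf_le (hn : Nat.card (Sylow p G) < p ^ 2) {P Q : Sylow p G} (hQ : Q ≠ P) (R : Sylow p G) :
    (P : Subgroup G) ⊓ Q ≤ R := by
  by_contra hD
  set D := (P : Subgroup G) ⊓ Q with hDdef
  have hDp : IsPGroup p D := P.2.to_le inf_le_left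
  have hRP : R ≠ P := fun e => hD (e ▸ inf_le_left)
  have hRQ : R ≠ Q := fun e => hD (e ▸ inf_le_right)
  -- the orbits agree
  have horb : ∀ T : Sylow p G, R ≠ T → D ≤ T →
      MulAction.orbit ↥(T : Subgroup G) R = MulAction.orbit ↥D R := by
    intro T hT hDT
    symm
    refine Set.eq_of_subset_of_ncard_le ?_ ?_ (Set.toFinite _)
    · rintro _ ⟨d, rfl⟩
      exact ⟨⟨(d : G), hDT d.2⟩, rfl⟩
    · rw [← Nat.card_coe_set_eq, ← Nat.card_coe_set_eq, card_orbit T.2 R, card_orbit hDp R,
        relIndex_eq hn T.2 R (not_le_of_ne hT), relIndex_eq hn hDp R hD]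
  have hsame : MulAction.orbit ↥(P : Subgroup G) R = MulAction.orbit ↥(Q : Subgroup G) R := by
    rw [horb P hRP inf_le_left, horb Q hRQ inf_le_right]
  -- `T ⊓ R` lies in every member of the orbit of `R` under `T`
  have hpt : ∀ T : Sylow p G, R ≠ T → ∀ R' ∈ MulAction.orbit ↥(T : Subgroup G) R,
      (T : Subgroup G) ⊓ R ≤ R' := by
    rintro T hT _ ⟨t, rfl⟩ x hx
    have hn' : (((T : Subgroup G) ⊓ R).subgroupOf (T : Subgroup G)).Normal := by
      obtain ⟨k, hk⟩ := T.2.exists_card_eq
      refine Subgroup.normal_of_index_eq_minFac_card ?_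
      rw [show (((T : Subgroup G) ⊓ R).subgroupOf (T : Subgroup G)).index =
        ((T : Subgroup G) ⊓ R).relIndex (T : Subgroup G) from rfl, inf_comm, Subgroup.inf_relIndex_right,
        relIndex_eq hn T.2 R (not_le_of_ne hT), hk]
      have hk0 : k ≠ 0 := by
        rintro rfl
        rw [pow_zero] at hk
        exact not_le_of_ne hT (by rw [Subgroup.eq_bot_of_card_eq _ hk]; exact bot_le)
      rw [Nat.Prime.pow_minFac hp.out hk0]
    have h2 := hn'.conj_mem ⟨x, hx.1⟩ (Subgroup.mem_subgroupOf.2 hx) t⁻¹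
    rw [Subgroup.mem_subgroupOf] at h2
    simp only [Subgroup.coe_mul, Subgroup.coe_inv, inv_inv] at h2
    show x ∈ (((t : G) • R : Sylow p G) : Subgroup G)
    rw [Sylow.coe_subgroup_smul, Subgroup.mem_pointwise_smul_iff_inv_smul_mem]
    have h3 : (MulAut.conj (t : G))⁻¹ • x = (t : G)⁻¹ * x * (t : G) := by
      rw [← map_inv, MulAut.smul_def, MulAut.conj_apply, inv_inv]
    rw [h3]
    exact h2.2
  set S := (P : Subgroup G) ⊓ R
  set T := (Q : Subgroup G) ⊓ R
  have hST : S ⊔ T ≠ (R : Subgroup G) := by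
    intro hR
    -- `R` would fix every member of the orbit
    have hO : Nat.card ↥(MulAction.orbit ↥(P : Subgroup G) R) = p := by
      rw [card_orbit P.2 R, relIndex_eq hn P.2 R (not_le_of_ne hRP)]
    have hsub : ∀ R' ∈ MulAction.orbit ↥(P : Subgroup G) R, (R : Subgroup G) ≤ R' := fun R' h' => by
      rw [← hR]
      exact sup_le (hpt P hRP R' h') (hpt Q hRQ R' (hsame ▸ h'))
    have hall : MulAction.orbit ↥(P : Subgroup G) R = {R} :=
      Set.eq_singleton_iff_unique_mem.2 ⟨MulAction.mem_orbit_self R, fun R' h' => by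
        by_contra hne
        exact not_le_of_ne hne (hsub R' h')⟩
    rw [hall] at hO
    rw [Nat.card_coe_set_eq, Set.ncard_singleton] at hO
    exact hp.out.one_lt.ne hO
  have hS : p * Nat.card ↥S = Nat.card (R : Subgroup G) := by
    rw [show S = (R : Subgroup G) ⊓ P from inf_comm _ _, card_mul_eq hn hRP.symm]
  have hT : p * Nat.card ↥T = Nat.card (R : Subgroup G) := by
    rw [show T = (R : Subgroup G) ⊓ Q from inf_comm _ _, card_mul_eq hn hRQ.symm]
  have hle : S ⊔ T ≤ (R : Subgroup G) := sup_le inf_le_right inf_le_right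
  have hSST : S = S ⊔ T := by
    refine Subgroup.eq_of_le_of_card_ge le_sup_left ?_
    obtain ⟨a, ha⟩ := (R.2.to_le (inf_le_right : S ≤ R)).exists_card_eq
    obtain ⟨b, hb⟩ := (R.2.to_le hle).exists_card_eq
    have h1 : Nat.card ↥(S ⊔ T) < Nat.card (R : Subgroup G) := lt_of_le_of_ne (Subgroup.card_le_of_le hle)
      fun e => hST (Subgroup.eq_of_le_of_card_ge hle e.ge)
    rw [← hS, hb, ha, ← pow_succ'] at h1
    rw [ha, hb]
    exact Nat.pow_le_pow_right hp.out.pos (Nat.lt_succ_iff.1 ((Nat.pow_lt_pow_iff_right hp.out.one_lt).1 h1))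
  have hTS : T = S := by
    refine Subgroup.eq_of_le_of_card_ge (hSST ▸ le_sup_right) ?_
    have := hS.trans hT.symm
    exact (Nat.eq_of_mul_eq_mul_left hp.out.pos this).le
  have hSD : S ≤ D := le_inf inf_le_left (hTS ▸ inf_le_left)
  have hDS : S = D := by
    refine Subgroup.eq_of_le_of_card_ge hSD ?_
    have h1 := card_mul_eq hn hQ
    have h2 := card_mul_eq hn hRP
    exact (Nat.eq_of_mul_eq_mul_left hp.out.pos (h1.trans h2.symm)).le
  exact hD (hDS ▸ inf_le_right)

/-- The `p`-core has index `p` in a Sylow subgroup, unless that is normal. -/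
theorem relIndex_pCore (hn : Nat.card (Sylow p G) < p ^ 2) (P : Sylow p G) (h1 : Nat.card (Sylow p G) ≠ 1) :
    (Cfsg.pCore p G).relIndex (P : Subgroup G) = p := by
  obtain ⟨Q, hQ⟩ : ∃ Q : Sylow p G, Q ≠ P := by
    by_contra hcon
    push Not at hcon
    haveI : Unique (Sylow p G) := ⟨⟨P⟩, hcon⟩
    exact h1 Nat.card_unique
  have he : Cfsg.pCore p G = (P : Subgroup G) ⊓ Q :=
    le_antisymm (le_inf (Cores.pCore_le_sylow P) (Cores.pCore_le_sylow Q))
      (by rw [Cores.pCore_eq_iInf]; exact le_iInf fun R => inf_le hn hQ R)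
  rw [he, inf_comm, Subgroup.inf_relIndex_right, relIndex_eq hn P.2 Q (not_le_of_ne hQ)]

end CfsgLib.Solvable.FewSylowPP
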