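import Cfsg.Agent.Lib.Solvable.FewSylowPrimePower.Backward
import Cfsg.Agent.Lib.Solvable.FewSylowPrimePower.Forward

/-!
# Fewer than `p²` Sylow subgroups: `p`-solvable iff a prime power
-/

set_option autoImplicit false

namespace CfsgLib.Solvable.FewSylowPP

open Subgroup CfsgLib.Fusion.PSolvable
open CfsgLib.Solvable

theorem main {G : Type*} [Group G] [Finite G] {p : ℕ} [hp : Fact p.Prime]
    (hM : ¬ (3 < p ∧ ∃ k : ℕ, p + 1 = 2 ^ k)) (hn : Nat.card (Sylow p G) < p ^ 2) :
    Cfsg.IsPSolvable p G ↔ ∃ q k : ℕ, q.Prime ∧ Nat.card (Sylow p G) = q ^ k := by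
  obtain ⟨P⟩ : Nonempty (Sylow p G) := inferInstance
  by_cases h1 : Nat.card (Sylow p G) = 1
  · exact ⟨fun _ => ⟨2, 0, Nat.prime_two, h1⟩, fun _ => psolvable_of_normal_sylow P h1⟩
  set M := Cfsg.pCore p G
  set f := QuotientGroup.mk' M
  have hsurj : Function.Surjective f := QuotientGroup.mk'_surjective M
  let R : Sylow p (G ⧸ M) := P.mapSurjective hsurj
  have hR : (R : Subgroup (G ⧸ M)) = (P : Subgroup G).map f := rfl
  have hRc : Nat.card (R : Subgroup (G ⧸ M)) = p := by
    have h := Subgroup.relIndex_ker f (K := (P : Subgroup G))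
    rw [QuotientGroup.ker_mk', relIndex_pCore hn P h1] at h
    refine Eq.trans ?_ h.symm
    rw [hR, ← SetLike.coe_sort_coe, Subgroup.coe_map]
  have hcount : Nat.card (Sylow p (G ⧸ M)) = Nat.card (Sylow p G) := by
    rw [R.card_eq_index_normalizer, P.card_eq_index_normalizer,
      ← Subgroup.index_comap_of_surjective _ hsurj]
    congr 1
    show (normalizer (((P : Subgroup G).map f : Subgroup (G ⧸ M)) : Set (G ⧸ M))).comap f = _
    rw [Subgroup.comap_normalizer_eq_of_surjective _ hsurj, Subgroup.comap_map_eq, QuotientGroup.ker_mk',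
      sup_eq_left.2 (Cores.pCore_le_sylow P)]
    rfl
  rw [← hcount] at hn ⊢
  refine ⟨fun h => prime_power_of_order_p (psolvable_quotient h M) R hRc hn, fun ⟨q, k, hq, hqk⟩ => ?_⟩
  exact psolvable_cons M (Or.inl (Cores.isPGroup_pCore p)) (psolvable_of_order_p hM R hRc hn hq hqk)

end CfsgLib.Solvable.FewSylowPP
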